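import Mathlib

/-!
# Henselianity of the local ring at a prime fixed by the absolute Galois group
-/

universe u

set_option autoImplicit false
set_option backward.isDefEq.respectTransparency false
set_option backward.isDefEq.respectTransparency.types false

open Polynomial IsLocalRing

namespace Groth.Agent.H1DecHens

variable {R K Ks : Type u} [CommRing R] [Field K] [Algebra R K] [Field Ks] [Algebra K Ks]
  [IsSepClosure K Ks] [Algebra R Ks] [IsScalarTower R K Ks]

/-- The automorphisms of `Ks` respecting a set of elements. -/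
def stab (Ps : Ideal (integralClosure R Ks)) : Subgroup (Ks ≃ₐ[K] Ks) where
  carrier := {σ | ∀ x : Ks, (∃ h : x ∈ integralClosure R Ks, (⟨x, h⟩ : integralClosure R Ks) ∈ Ps) ↔
    ∃ h : σ x ∈ integralClosure R Ks, (⟨σ x, h⟩ : integralClosure R Ks) ∈ Ps}
  one_mem' := fun _ => Iff.rfl
  mul_mem' := fun {σ τ} hσ hτ x => (hτ x).trans (hσ (τ x))
  inv_mem' := fun {σ} hσ x => by
    have h := hσ (σ⁻¹ x)
    have e : σ (σ⁻¹ x) = x := σ.apply_symm_apply x
    simp only [e] at h
    exact h.symm

theorem mem_integralClosure_apply (σ : Ks ≃ₐ[K] Ks) {x : Ks} (h : x ∈ integralClosure R Ks) :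
    σ x ∈ integralClosure R Ks :=
  IsIntegral.map (σ.toAlgHom.restrictScalars R) h

/-- An automorphism fixing the fixed field of automorphisms respecting `Ps` respects `Ps`. -/
theorem mem_stab_of_fix (Ps : Ideal (integralClosure R Ks)) (D : Set (Ks ≃ₐ[K] Ks)) (hD : D ⊆ ((stab Ps : Subgroup (Ks ≃ₐ[K] Ks)) : Set (Ks ≃ₐ[K] Ks)))
    (L : IntermediateField K Ks) (hL : L = IntermediateField.fixedField (Subgroup.closure D))
    (σ : Ks ≃ₐ[K] Ks) (hσ : σ ∈ L.fixingSubgroup) : σ ∈ stab Ps := by
  have hclosed : IsClosed ((stab Ps : Subgroup (Ks ≃ₐ[K] Ks)) : Set (Ks ≃ₐ[K] Ks)) := by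
    rw [← isOpen_compl_iff, isOpen_iff_forall_mem_open]
    intro τ hτ
    obtain ⟨x, hx⟩ := not_forall.mp (show ¬ ∀ x : Ks, _ from hτ)
    haveI : FiniteDimensional K (IntermediateField.adjoin K {x}) :=
      IntermediateField.adjoin.finiteDimensional (Algebra.IsAlgebraic.isAlgebraic x).isIntegral
    refine ⟨(fun ρ => τ * ρ) '' ((IntermediateField.adjoin K {x}).fixingSubgroup : Set (Ks ≃ₐ[K] Ks)), ?_,
      (Homeomorph.mulLeft τ).isOpenMap _ (IntermediateField.fixingSubgroup_isOpen _), 1, one_mem _, mul_one τ⟩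
    rintro _ ⟨ρ, hρ, rfl⟩ h
    have e : ρ x = x := (IntermediateField.mem_fixingSubgroup_iff _ ρ).mp hρ x (IntermediateField.mem_adjoin_simple_self K x)
    have h1 := (h : ∀ y : Ks, _) x
    simp only [AlgEquiv.mul_apply, e] at h1
    exact hx h1
  let C : ClosedSubgroup (Ks ≃ₐ[K] Ks) := ⟨stab Ps, hclosed⟩
  have hle : IntermediateField.fixedField (stab Ps) ≤ L := by
    rw [hL]
    intro z hz τ
    exact hz ⟨τ, (Subgroup.closure_le (stab Ps)).mpr hD τ.2⟩
  have h1 : L.fixingSubgroup ≤ (IntermediateField.fixedField C.toSubgroup).fixingSubgroup :=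
    IntermediateField.fixingSubgroup_antitone hle
  rw [InfiniteGalois.fixingSubgroup_fixedField C] at h1
  exact h1 hσ

variable {Ps : Ideal (integralClosure R Ks)} {L : IntermediateField K Ks} {Q : Ideal (integralClosure R L)}

/-- The inclusion of the integral closures. -/
noncomputable def incl (L : IntermediateField K Ks) : integralClosure R L →+* integralClosure R Ks :=
  RingHom.codRestrict ((L.val.toRingHom).comp (integralClosure R L).val.toRingHom) (integralClosure R Ks) fun y =>
    IsIntegral.map (L.val.restrictScalars R) y.2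

theorem exists_root [Ps.IsPrime] [Q.IsPrime]
    (hfix : ∀ σ ∈ L.fixingSubgroup, σ ∈ stab Ps)
    (hQ : ∀ y : integralClosure R L, y ∈ Q ↔ incl L y ∈ Ps)
    (F : (integralClosure R L)[X]) (hF : F.Monic) (u : integralClosure R L) (hu : F.eval u ∈ Q)
    (hd : F.derivative.eval u ∉ Q) : ∃ w, F.eval w = 0 ∧ w - u ∈ Q := by
  classical
  let A := integralClosure R L
  let S := integralClosure R Ks
  let j : A →+* L := (integralClosure R L).val.toRingHom
  have hj : Function.Injective j := Subtype.val_injective
  let ι : A →+* S := incl L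
  -- an irreducible factor with a simple residue root
  obtain ⟨G, H, hG, hirr, hFG, hGu⟩ : ∃ G H : A[X], G.Monic ∧ Irreducible (G.map j) ∧ F = G * H ∧ G.eval u ∈ Q := by
    have hne : F.map j ≠ 0 := (hF.map j).ne_zero
    have hprod : ((UniqueFactorizationMonoid.normalizedFactors (F.map j)).prod) = F.map j := by
      refine Polynomial.eq_of_monic_of_associated ?_ (hF.map j) (UniqueFactorizationMonoid.prod_normalizedFactors hne)
      rw [← Multiset.map_id' (UniqueFactorizationMonoid.normalizedFactors (F.map j))]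
      refine Polynomial.monic_multiset_prod_of_monic _ _ fun g hg => ?_
      have h0 := (UniqueFactorizationMonoid.irreducible_of_normalized_factor g hg).ne_zero
      rw [← UniqueFactorizationMonoid.normalize_normalized_factor g hg]
      exact Polynomial.monic_normalize h0
    have hlift : ∀ g ∈ UniqueFactorizationMonoid.normalizedFactors (F.map j), ∃ G : A[X], G.map j = g ∧ G.Monic := by
      intro g hg
      have hgm : g.Monic := by
        have h0 := (UniqueFactorizationMonoid.irreducible_of_normalized_factor g hg).ne_zero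
        rw [← UniqueFactorizationMonoid.normalize_normalized_factor g hg]
        exact Polynomial.monic_normalize h0
      have hfin : ∀ c, IsIntegral (integralClosure R L) c → c ∈ (integralClosure R L) := fun c hc => isIntegral_trans c hc
      have hl : g ∈ lifts j := by
        have h2 := integralClosure.mem_lifts_of_monic_of_dvd_map L hF hgm
          (UniqueFactorizationMonoid.dvd_of_mem_normalizedFactors hg)
        rw [Polynomial.lifts_iff_coeff_lifts] at h2 ⊢
        intro n
        obtain ⟨c, hc⟩ := h2 n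
        exact ⟨⟨(c : L), hfin _ c.2⟩, hc⟩
      obtain ⟨G, h1, -, h3⟩ := Polynomial.lifts_and_natDegree_eq_and_monic hl hgm
      exact ⟨G, h1, h3⟩
    choose! Gl hGl hGm using hlift
    have heq : ((UniqueFactorizationMonoid.normalizedFactors (F.map j)).map Gl).prod = F := by
      apply Polynomial.map_injective j hj
      show Polynomial.mapRingHom j _ = F.map j
      rw [map_multiset_prod, Multiset.map_map]
      exact (congrArg Multiset.prod ((Multiset.map_congr rfl (fun g hg => hGl g hg)).trans (Multiset.map_id' _))).trans hprod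
    have h1 : (((UniqueFactorizationMonoid.normalizedFactors (F.map j)).map Gl).map (Polynomial.evalRingHom u)).prod ∈ Q := by
      rw [← map_multiset_prod, heq]
      exact hu
    obtain ⟨z, hz, hzQ⟩ := (Ideal.IsPrime.multiset_prod_mem_iff_exists_mem ‹Q.IsPrime› _).mp h1
    rw [Multiset.map_map, Multiset.mem_map] at hz
    obtain ⟨g, hg, rfl⟩ := hz
    obtain ⟨Hs, hHs⟩ : Gl g ∣ F := by
      rw [← heq]
      exact Multiset.dvd_prod (Multiset.mem_map_of_mem Gl hg)
    exact ⟨Gl g, Hs, hGm g hg, by rw [hGl g hg]; exact UniqueFactorizationMonoid.irreducible_of_normalized_factor g hg,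
      hHs, hzQ⟩
  have hGd : G.derivative.eval u ∉ Q := by
    intro h
    apply hd
    rw [hFG, derivative_mul, eval_add, eval_mul, eval_mul]
    exact add_mem (Q.mul_mem_right _ h) (Q.mul_mem_right _ hGu)
  have hsep : (G.map j).Separable := by
    rw [separable_iff_derivative_ne_zero hirr, derivative_map, Ne, ← Polynomial.map_zero j,
      (Polynomial.map_injective j hj).eq_iff]
    intro h0
    exact hGd (by rw [h0, eval_zero]; exact Q.zero_mem)
  let k : A →+* Ks := L.val.toRingHom.comp j
  have hspl : (G.map k).Splits := by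
    haveI : IsSepClosed Ks := IsSepClosure.sep_closed K
    refine IsSepClosed.splits_of_separable _ ?_
    rw [← Polynomial.map_map]
    exact hsep.map
  have hroot : ∀ z ∈ (G.map k).roots, z ∈ integralClosure R Ks := by
    intro z hz
    rw [mem_roots (hG.map k).ne_zero, IsRoot, eval_map] at hz
    letI : Algebra A Ks := k.toAlgebra
    haveI : IsScalarTower R A Ks := IsScalarTower.of_algebraMap_eq fun r => by
      show algebraMap R Ks r = ((algebraMap R L r : L) : Ks)
      rfl
    haveI : Algebra.IsIntegral R A := ⟨fun a => (isIntegral_algHom_iff (integralClosure R L).val Subtype.val_injective).mp a.2⟩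
    exact isIntegral_trans (A := A) z ⟨G, hG, hz⟩
  -- a root congruent to `u`
  let s := (G.map k).roots.pmap (fun z hz => (⟨z, hz⟩ : S)) hroot
  have hGS : G.map ι = (s.map fun z => X - C z).prod := by
    apply Polynomial.map_injective S.val.toRingHom Subtype.val_injective
    rw [Polynomial.map_map, ← Polynomial.coe_mapRingHom (S.val.toRingHom), map_multiset_prod, Multiset.map_map]
    show G.map k = _
    conv_lhs => rw [hspl.eq_prod_roots_of_monic (hG.map k)]
    congr 1
    simp only [s, Multiset.map_pmap, Function.comp_def, Polynomial.coe_mapRingHom, Polynomial.map_sub, map_X, map_C]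
    exact (Multiset.pmap_eq_map _ (fun z : Ks => (X - C z : Ks[X])) _ hroot).symm
  have heval : ∀ p : A[X], (p.map ι).eval (ι u) = ι (p.eval u) := fun p => by rw [eval_map, eval₂_hom]
  obtain ⟨x, hx, hxu⟩ : ∃ x ∈ s, ι u - x ∈ Ps := by
    have h1 : (s.map fun z => ι u - z).prod ∈ Ps := by
      have h := heval G
      rw [hGS, eval_multiset_prod, Multiset.map_map] at h
      simp only [Function.comp_def, eval_sub, eval_X, eval_C] at h
      rw [h]
      exact (hQ _).mp hGu
    obtain ⟨z, hz, hzP⟩ := (Ideal.IsPrime.multiset_prod_mem_iff_exists_mem ‹Ps.IsPrime› _).mp h1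
    obtain ⟨x, hx, rfl⟩ := Multiset.mem_map.mp hz
    exact ⟨x, hx, hzP⟩
  have hroots : ∀ z : S, (G.map ι).eval z = 0 → ι u - z ∈ Ps → z = x := by
    intro z hz hzP
    by_contra hne
    obtain ⟨T, hT⟩ := dvd_iff_isRoot.mpr (show (G.map ι).IsRoot x by
      rw [hGS, IsRoot, eval_multiset_prod, Multiset.map_map, Multiset.prod_eq_zero_iff]
      exact Multiset.mem_map.mpr ⟨x, hx, by simp⟩)
    have hTz : T.eval z = 0 := by
      rw [hT, eval_mul, eval_sub, eval_X, eval_C] at hz
      exact (mul_eq_zero.mp hz).resolve_left (sub_ne_zero.mpr hne)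
    obtain ⟨T', hT'⟩ := dvd_iff_isRoot.mpr (show T.IsRoot z from hTz)
    apply hGd
    rw [hQ]
    show ι (G.derivative.eval u) ∈ Ps
    rw [← heval, ← derivative_map, hT, hT']
    simp only [derivative_mul, derivative_sub, derivative_X, derivative_C, eval_add, eval_mul, eval_sub, eval_X, eval_C,
      sub_zero, one_mul, eval_one]
    exact add_mem (Ps.mul_mem_right _ hzP) (Ps.mul_mem_right _ hxu)
  have hxroot : (G.map ι).eval x = 0 := by
    rw [hGS, eval_multiset_prod, Multiset.map_map, Multiset.prod_eq_zero_iff]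
    exact Multiset.mem_map.mpr ⟨x, hx, by simp⟩
  have hxL : (x : Ks) ∈ L := by
    rw [← InfiniteGalois.fixedField_fixingSubgroup L]
    intro σ
    let σx : S := ⟨σ.1 x, mem_integralClosure_apply σ.1 x.2⟩
    have hev : ∀ (z : S), (((G.map ι).eval z : S) : Ks) = (G.map k).eval (z : Ks) := fun z => by
      show S.val.toRingHom _ = _
      rw [eval_map, hom_eval₂, eval_map]
      rfl
    have hfixk : ∀ a : A, σ.1 (k a) = k a := fun a => (IntermediateField.mem_fixingSubgroup_iff L σ.1).mp σ.2 _ (j a).2
    have h1 : (G.map ι).eval σx = 0 := by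
      apply Subtype.ext
      show (((G.map ι).eval σx : S) : Ks) = 0
      rw [hev, eval_map]
      have h0 : (G.map k).eval (x : Ks) = 0 := by rw [← hev, hxroot]; rfl
      rw [eval_map] at h0
      have := congrArg σ.1 h0
      replace this : σ.1.toRingEquiv.toRingHom (eval₂ k (x : Ks) G) = σ.1.toRingEquiv.toRingHom 0 := this
      rw [map_zero, hom_eval₂] at this
      rw [show σ.1.toRingEquiv.toRingHom.comp k = k from RingHom.ext hfixk] at this
      exact this
    have h2 : ι u - σx ∈ Ps := by
      have h3 := (hfix σ.1 σ.2 ((ι u - x : S) : Ks)).mp ⟨(ι u - x : S).2, hxu⟩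
      obtain ⟨hm, hm'⟩ := h3
      convert hm' using 1
      apply Subtype.ext
      show k u - σ.1 (x : Ks) = σ.1 (k u - (x : Ks))
      rw [map_sub, hfixk]
    show σ.1 (x : Ks) = x
    exact congrArg Subtype.val (hroots σx h1 h2)
  have hint : IsIntegral R (⟨(x : Ks), hxL⟩ : L) :=
    (isIntegral_algHom_iff (L.val.restrictScalars R) Subtype.val_injective).mp x.2
  let w : A := ⟨⟨(x : Ks), hxL⟩, hint⟩
  have hw : ι w = x := rfl
  refine ⟨w, ?_, ?_⟩
  · have : G.eval w = 0 := by
      apply RingHom.injective_iff_ker_eq_bot ι |>.mpr ?_ (a₁ := G.eval w) (a₂ := 0) (by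
        rw [map_zero, ← eval₂_hom, ← eval_map, hw, hxroot])
      rw [← RingHom.injective_iff_ker_eq_bot]
      intro a b h
      exact hj (show j a = j b from Subtype.ext (congrArg (fun z : S => (z : Ks)) h))
    rw [hFG, eval_mul, this, zero_mul]
  · rw [hQ]
    show ι (w - u) ∈ Ps
    rw [map_sub, hw, ← neg_sub]
    exact Ps.neg_mem hxu

/-- The local ring of the fixed field at a fixed prime is henselian. -/
theorem henselian [Ps.IsPrime] [Q.IsPrime]
    (hfix : ∀ σ ∈ L.fixingSubgroup, σ ∈ stab Ps)
    (hQ : ∀ y : integralClosure R L, y ∈ Q ↔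
      ∃ x : integralClosure R Ks, x ∈ Ps ∧ (x : Ks) = ((y : L) : Ks)) :
    HenselianLocalRing (Localization.AtPrime Q) := by
  classical
  let A := integralClosure R L
  let B := Localization.AtPrime Q
  let φ := algebraMap A B
  have hQ' : ∀ y : A, y ∈ Q ↔ incl L y ∈ Ps := fun y => by
    rw [hQ]
    exact ⟨fun ⟨x, hx, he⟩ => (show x = incl L y from Subtype.ext he) ▸ hx, fun h => ⟨_, h, rfl⟩⟩
  refine ⟨fun f hf a₀ h0 h1 => ?_⟩
  obtain ⟨t, ht⟩ := IsLocalization.exist_integer_multiples_of_finset Q.primeCompl (insert a₀ (f.coeffs))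
  have hint : ∀ c ∈ insert a₀ f.coeffs, ∃ a : A, φ a = φ t * c := fun c hc => by
    obtain ⟨a, ha⟩ := ht c hc
    exact ⟨a, by rw [ha, Algebra.smul_def]⟩
  obtain ⟨u, hu⟩ := hint a₀ (Finset.mem_insert_self _ _)
  have htu : IsUnit (φ t) := IsLocalization.map_units B t
  have hl : scaleRoots f (φ t) ∈ lifts φ := by
    rw [lifts_iff_coeff_lifts]
    intro i
    rw [coeff_scaleRoots]
    rcases Nat.lt_or_ge i f.natDegree with hi | hi
    · by_cases hc : f.coeff i = 0
      · exact ⟨0, by rw [hc, zero_mul, map_zero]⟩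
      obtain ⟨a, ha⟩ := hint (f.coeff i) (Finset.mem_insert_of_mem (coeff_mem_coeffs hc))
      refine ⟨a * (t : A) ^ (f.natDegree - i - 1), ?_⟩
      show φ _ = _
      rw [map_mul, map_pow, ha, mul_comm (φ t) (f.coeff i), mul_assoc, ← pow_succ']
      congr 2
      omega
    · rcases hi.eq_or_lt with he | hlt
      · exact ⟨1, by rw [← he, hf.coeff_natDegree, Nat.sub_self, pow_zero, mul_one, map_one]⟩
      · exact ⟨0, by rw [coeff_eq_zero_of_natDegree_lt hlt, zero_mul, map_zero]⟩
  obtain ⟨F, hF, -, hFm⟩ := lifts_and_natDegree_eq_and_monic hl ((monic_scaleRoots_iff (φ t)).mpr hf)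
  have key : ∀ b : B, (scaleRoots f (φ t)).eval (φ t * b) = φ t ^ f.natDegree * f.eval b := fun b =>
    scaleRoots_eval₂_mul (RingHom.id B) b (φ t)
  have hmem : ∀ a : A, φ a ∈ maximalIdeal B ↔ a ∈ Q := fun a => IsLocalization.AtPrime.to_map_mem_maximal_iff B Q a
  have hFu : F.eval u ∈ Q := by
    rw [← hmem, ← eval₂_hom, ← eval_map, hF, hu, key]
    exact Ideal.mul_mem_left _ _ h0
  have hFd : F.derivative.eval u ∉ Q := by
    intro h
    rw [← hmem, ← eval₂_hom, ← eval_map, ← derivative_map, hF, hu] at h
    have hcomp : (scaleRoots f (φ t)).comp (C (φ t) * X) = C (φ t ^ f.natDegree) * f := by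
      have := scaleRoots_eval₂_mul (p := f) (C : B →+* B[X]) X (φ t)
      rw [← map_pow] at this
      rw [eval₂_C_X] at this
      exact this
    have hder := congrArg (fun p => (derivative p).eval a₀) hcomp
    simp only [derivative_comp, derivative_mul, derivative_C, zero_mul, zero_add, derivative_X, mul_one] at hder
    simp only [eval_mul, eval_comp, eval_X, eval_add] at hder
    have e1 : ∀ c : B, derivative (C c) = 0 := fun c => derivative_C
    have e2 : ∀ c : B, eval a₀ (C c) = c := fun c => eval_C
    rw [e1, e1, e2, e2, eval_zero, zero_mul, zero_mul, zero_add, zero_add] at hder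
    have : φ t ^ f.natDegree * f.derivative.eval a₀ ∈ maximalIdeal B := by
      rw [← hder]
      exact Ideal.mul_mem_left _ _ h
    exact ((mem_maximalIdeal _).mp this) ((htu.pow _).mul h1)
  obtain ⟨w, hw, hwu⟩ := exists_root hfix hQ' F hFm u hFu hFd
  obtain ⟨ti, hti⟩ := htu.exists_left_inv
  refine ⟨ti * φ w, ?_, ?_⟩
  · have h2 : φ t ^ f.natDegree * f.eval (ti * φ w) = 0 := by
      rw [← key, ← mul_assoc, mul_comm (φ t) ti, hti, one_mul, ← hF, eval_map, eval₂_hom, hw, map_zero]
    exact (htu.pow _).mul_right_eq_zero.mp h2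
  · have h3 : φ (w - u) ∈ maximalIdeal B := (hmem _).mpr hwu
    have h4 : ti * φ (w - u) = ti * φ w - a₀ := by
      rw [map_sub, hu, mul_sub, ← mul_assoc ti (φ t) a₀, hti, one_mul]
    rw [← h4]
    exact Ideal.mul_mem_left _ _ h3

end Groth.Agent.H1DecHens
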